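import Mathlib
import Cfsg.Prelude.Def_GeometricClasses
import Cfsg.Agent.GeoClasses.Basic

/-!
Subfields of the matrix algebra: intermediate subfields and their normalisers.
-/

set_option autoImplicit false

namespace Cfsg.Agent.MaxSub

open Matrix Cfsg.Geo
open scoped MatrixGroups Matrix

variable {ι : Type} [Fintype ι] [DecidableEq ι] {F : Type*} [Field F]

theorem isField_of_isFieldSubalgebra [Nonempty ι] {r : ℕ} {K : Subalgebra F (Matrix ι ι F)}
    (hK : IsFieldSubalgebra r K) : IsField K where
  exists_pair_ne := ⟨0, 1, zero_ne_one⟩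
  mul_comm x y := Subtype.ext (hK.comm x x.2 y y.2)
  mul_inv_cancel {x} hx := by
    obtain ⟨y, hy, hxy⟩ := hK.inv x x.2 fun h => hx (Subtype.ext h)
    exact ⟨⟨y, hy⟩, Subtype.ext hxy⟩

theorem mem_normalizer_iff_map_le [Finite F] {K : Subalgebra F (Matrix ι ι F)} {g : GL ι F} :
    g ∈ subalgebraNormalizer K ↔
      ∀ k ∈ K, (g : Matrix ι ι F) * k * ((g⁻¹ : GL ι F) : Matrix ι ι F) ∈ K := by
  refine ⟨fun h k hk => (h k).1 hk, fun h k => ⟨h k, fun hk => ?_⟩⟩
  let c : K → K := fun x => ⟨_, h x x.2⟩
  have hinj : Function.Injective c := by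
    intro x y hxy
    have := congrArg (fun z : K => ((g⁻¹ : GL ι F) : Matrix ι ι F) * z.1 * (g : Matrix ι ι F)) hxy
    apply Subtype.ext
    simpa [c, mul_assoc, ← Units.val_mul] using this
  obtain ⟨x, hx⟩ := Finite.surjective_of_injective hinj ⟨_, hk⟩
  have := congrArg (fun z : K => ((g⁻¹ : GL ι F) : Matrix ι ι F) * z.1 * (g : Matrix ι ι F)) hx
  simp [c, mul_assoc, ← Units.val_mul] at this
  exact this ▸ x.2

/-- The normaliser of a field subalgebra normalises each subfield of the given degree. -/
theorem exists_subfield_subalgebra [Finite F] [Nonempty ι] {r s : ℕ} (hs : 0 < s) (hsr : s ∣ r)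
    {K : Subalgebra F (Matrix ι ι F)} (hK : IsFieldSubalgebra r K) :
    ∃ L : Subalgebra F (Matrix ι ι F), L ≤ K ∧ IsFieldSubalgebra s L ∧
      subalgebraNormalizer K ≤ subalgebraNormalizer L := by
  classical
  letI : Field K := (isField_of_isFieldSubalgebra hK).toField
  haveI : Finite K := Finite.of_injective (fun x : K => (x : Matrix ι ι F)) Subtype.val_injective
  obtain ⟨p, hp⟩ := CharP.exists F
  haveI : Fact p.Prime := ⟨(CharP.char_is_prime F p)⟩
  haveI : NeZero s := ⟨hs.ne'⟩
  haveI := Fintype.ofFinite K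
  haveI := Fintype.ofFinite (FiniteField.Extension F p s)
  obtain ⟨φ⟩ : Nonempty (FiniteField.Extension F p s →ₐ[F] K) :=
    FiniteField.nonempty_algHom_of_finrank_dvd (by rw [FiniteField.finrank_extension, hK.finrank_eq]; exact hsr)
  let ψ : FiniteField.Extension F p s →ₐ[F] Matrix ι ι F := K.val.comp φ
  have hψinj : Function.Injective ψ := Subtype.val_injective.comp φ.toRingHom.injective
  set Q := Nat.card (FiniteField.Extension F p s) with hQ
  have hQ1 : 1 < Q := Finite.one_lt_card
  -- membership in the image is a polynomial condition inside K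
  have hchar : ∀ x : K, (x : Matrix ι ι F) ∈ ψ.range ↔ x ^ Q = x := by
    intro x
    constructor
    · rintro ⟨e, he⟩
      have he' : φ e = x := Subtype.ext he
      rw [← he', ← map_pow, hQ, ← Fintype.card_eq_nat_card, FiniteField.pow_card]
    · intro hx
      let T := (Polynomial.X ^ Q - Polynomial.X : Polynomial K).roots.toFinset
      have hmem : ∀ y : K, y ∈ T ↔ y ^ Q = y := fun y => by
        simp [T, FiniteField.X_pow_card_sub_X_ne_zero K hQ1, sub_eq_zero]
      have hsub : Finset.univ.image φ ⊆ T := by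
        intro y hy
        obtain ⟨e, -, rfl⟩ := Finset.mem_image.mp hy
        rw [hmem, ← map_pow, hQ, ← Fintype.card_eq_nat_card, FiniteField.pow_card]
      have hT : T.card ≤ Q := by
        refine (Multiset.toFinset_card_le _).trans ((Polynomial.card_roots' _).trans ?_)
        rw [FiniteField.X_pow_card_sub_X_natDegree_eq K hQ1]
      have heq := Finset.eq_of_subset_of_card_le hsub (by
        rw [Finset.card_image_of_injective (Finset.univ) (f := φ) φ.toRingHom.injective, Finset.card_univ,
          Fintype.card_eq_nat_card]; exact hT)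
      have := heq ▸ (hmem x).mpr hx
      obtain ⟨e, -, he⟩ := Finset.mem_image.mp this
      exact ⟨e, congrArg Subtype.val he⟩
  refine ⟨ψ.range, by rintro _ ⟨e, rfl⟩; exact (φ e).2, ⟨?_, ?_, ?_⟩, ?_⟩
  · rintro _ ⟨a, rfl⟩ _ ⟨b, rfl⟩
    simp [← map_mul, mul_comm]
  · rintro _ ⟨a, rfl⟩ hne
    refine ⟨ψ a⁻¹, ⟨_, rfl⟩, ?_⟩
    show ψ a * ψ a⁻¹ = 1
    rw [← map_mul, mul_inv_cancel₀ (fun h => hne (by simp [h])), map_one]
  · rw [← LinearEquiv.finrank_eq (AlgEquiv.ofInjective ψ hψinj).toLinearEquiv,
      FiniteField.finrank_extension]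
  · intro g hg
    rw [mem_normalizer_iff_map_le] at hg ⊢
    rintro k ⟨e, rfl⟩
    have hk : ψ e ∈ K := (φ e).2
    refine (hchar (⟨_, hg _ hk⟩ : K)).mpr (Subtype.ext ?_)
    have hpow : ψ e ^ Q = ψ e := by rw [← map_pow, hQ, ← Fintype.card_eq_nat_card, FiniteField.pow_card]
    rw [SubmonoidClass.coe_pow]
    show ((g : Matrix ι ι F) * ψ e * ((g⁻¹ : GL ι F) : Matrix ι ι F)) ^ Q = (g : Matrix ι ι F) * ψ e * _
    rw [Units.conj_pow, hpow]

/-- Some element of `SL` centralising the image of a field `E` does not normalise a strictly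
larger field `K`. -/
theorem exists_centralizer_not_normalizer_aux [Finite F] [Nonempty ι] {E : Type*} [Field E]
    [Algebra F E] [Finite E] (ψ : E →ₐ[F] Matrix ι ι F) {r : ℕ} {K : Subalgebra F (Matrix ι ι F)}
    (hK : IsFieldSubalgebra r K) (hLK : ∀ e, ψ e ∈ K) (hsr : Module.finrank F E < r)
    (hn : 2 * Module.finrank F E < Fintype.card ι) :
    ∃ g ∈ specialLinear ι F, (∀ e, (g : Matrix ι ι F) * ψ e = ψ e * (g : Matrix ι ι F)) ∧
      g ∉ subalgebraNormalizer K := by
  classical
  by_contra hcon
  push Not at hcon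
  let act : E →+* Module.End F (ι → F) :=
    (Matrix.toLinAlgEquiv' : Matrix ι ι F ≃ₐ[F] _).toAlgHom.toRingHom.comp ψ.toRingHom
  letI : Module E (ι → F) := Module.compHom _ act
  have smul_def : ∀ (l : E) (v : ι → F), l • v = ψ l *ᵥ v := fun l v => rfl
  haveI : IsScalarTower F E (ι → F) :=
    ⟨fun c l v => by rw [smul_def, smul_def, map_smul]; exact Matrix.smul_mulVec c (ψ l) v⟩
  haveI : Module.Finite E (ι → F) := .of_finite
  set s := Module.finrank F E with hsL
  -- rank over L is at least two
  have hd : 2 ≤ Module.finrank E (ι → F) := by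
    have := Module.finrank_mul_finrank F E (ι → F)
    rw [Module.finrank_fintype_fun_eq_card] at this
    by_contra h
    have h1 := Nat.mul_le_mul_left (Module.finrank F E) (show Module.finrank E (ι → F) ≤ 1 by omega)
    omega
  -- an element of K is L-linear, and every vector is an eigenvector
  have key : ∀ x ∈ K, ∀ (f : (ι → F) →ₗ[E] E) (w : ι → F), f w = 0 → ∀ v,
      x *ᵥ (f v • w) = f (x *ᵥ v) • w := by
    intro x hx f w hfw v
    let N : (ι → F) →ₗ[F] (ι → F) := ((f.smulRight w).restrictScalars F)
    set M : Matrix ι ι F := LinearMap.toMatrix' N with hM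
    have hMv : ∀ u, M *ᵥ u = f u • w := fun u => LinearMap.toMatrix'_mulVec N u
    have hMM : M * M = 0 := by
      apply Matrix.toLin'.injective
      refine LinearMap.ext fun u => ?_
      rw [Matrix.toLin'_apply, ← Matrix.mulVec_mulVec, hMv, hMv, map_smul, hfw, smul_zero, zero_smul]
      simp
    let g : GL ι F := ⟨1 + M, 1 - M, by rw [mul_sub, add_mul, add_mul]; simp [hMM],
      by rw [sub_mul, mul_add, mul_add]; simp [hMM]⟩
    obtain ⟨p, hp⟩ := CharP.exists F
    haveI : Fact p.Prime := ⟨CharP.char_is_prime F p⟩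
    have hg1 : g ∈ specialLinear ι F := by
      rw [Cfsg.Agent.GeoClasses.mem_specialLinear_iff]
      show (1 + M).det = 1
      have hpow : (1 + M) ^ p = 1 := by
        have h : ∀ k : ℕ, (1 + M) ^ k = 1 + (k : F) • M := by
          intro k
          induction k with
          | zero => simp
          | succ k ih =>
            rw [pow_succ, ih, add_mul, mul_add, mul_add]
            simp [hMM, add_smul]
            abel
        rw [h, CharP.cast_eq_zero, zero_smul, add_zero]
      have h2 : (1 + M).det ^ p = 1 ^ p := by rw [← Matrix.det_pow, hpow, Matrix.det_one, one_pow]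
      exact frobenius_inj F p h2
    have hgL : ∀ e, (g : Matrix ι ι F) * ψ e = ψ e * (g : Matrix ι ι F) := by
      intro l
      show (1 + M) * ψ l = ψ l * (1 + M)
      rw [add_mul, mul_add, one_mul, mul_one]
      congr 1
      apply Matrix.toLin'.injective
      refine LinearMap.ext fun u => ?_
      rw [Matrix.toLin'_apply, Matrix.toLin'_apply, ← Matrix.mulVec_mulVec, ← Matrix.mulVec_mulVec,
        hMv, hMv, ← smul_def l, ← smul_def l, map_smul, smul_smul, smul_eq_mul]
    have hg2 := (mem_normalizer_iff_map_le).mp (hcon g hg1 hgL) x hx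
    set D := (1 + M) * x * (1 - M) - x with hD
    have hDK : D ∈ K := K.sub_mem hg2 hx
    have hD0 : D = 0 := by
      by_contra h0
      obtain ⟨y, -, hy⟩ := hK.inv D hDK h0
      have hsurj : Function.Surjective (Matrix.toLin' D) := fun u =>
        ⟨y *ᵥ u, by rw [Matrix.toLin'_apply, Matrix.mulVec_mulVec, hy, Matrix.one_mulVec]⟩
      let Lw : Submodule F (ι → F) := (Submodule.span E {w}).restrictScalars F
      have hrange : (LinearMap.range (Matrix.toLin' D)) ≤ Lw ⊔ Lw.map (Matrix.toLin' x) := by
        rintro _ ⟨u, rfl⟩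
        have hDe : D = M * (x - x * M) - x * M := by rw [hD]; noncomm_ring
        rw [Matrix.toLin'_apply, hDe, Matrix.sub_mulVec, ← Matrix.mulVec_mulVec, ← Matrix.mulVec_mulVec, hMv, hMv]
        refine Submodule.sub_mem _ (Submodule.mem_sup_left ?_) (Submodule.mem_sup_right ⟨f u • w, ?_, rfl⟩)
        · exact Submodule.smul_mem _ _ (Submodule.mem_span_singleton_self w)
        · exact Submodule.smul_mem _ _ (Submodule.mem_span_singleton_self w)
      rw [LinearMap.range_eq_top.mpr hsurj, top_le_iff] at hrange
      have h1 : Module.finrank F Lw ≤ s := by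
        let e : E →ₗ[F] (ι → F) := (LinearMap.toSpanSingleton E (ι → F) w).restrictScalars F
        have : Lw = LinearMap.range e := by
          ext u
          simp [Lw, e, Submodule.mem_span_singleton]
        rw [this, hsL]
        exact LinearMap.finrank_range_le e
      have h2 := Submodule.finrank_add_le_finrank_add_finrank Lw (Lw.map (Matrix.toLin' x))
      have h3 := Submodule.finrank_map_le (Matrix.toLin' x) Lw
      rw [hrange, finrank_top, Module.finrank_fintype_fun_eq_card] at h2
      omega
    have hcomm : M * x = x * M := by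
      have h4 : (1 + M) * x = x * (1 + M) := by
        have := congrArg (· * (1 + M)) (sub_eq_zero.mp (hD ▸ hD0))
        simp only [mul_assoc] at this
        rwa [show (1 - M) * (1 + M) = 1 by rw [sub_mul, mul_add, mul_add]; simp [hMM], mul_one] at this
      rw [add_mul, mul_add, one_mul, mul_one] at h4
      exact add_left_cancel h4
    have := congrArg (fun A : Matrix ι ι F => A *ᵥ v) hcomm
    simp only [← Matrix.mulVec_mulVec, hMv] at this
    exact this.symm
  -- hence K = L
  have hsub : ∀ x ∈ K, x ∈ ψ.range := by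
    intro x hx
    let xl : (ι → F) →ₗ[E] (ι → F) :=
      { toFun := fun v => x *ᵥ v
        map_add' := fun a b => Matrix.mulVec_add x a b
        map_smul' := fun l v => by
          simp only [smul_def, RingHom.id_apply, Matrix.mulVec_mulVec]
          rw [hK.comm x hx _ (hLK l)] }
    obtain ⟨c, hc⟩ := xl.exists_eq_smul_id_of_forall_notLinearIndependent (fun w hli => by
      have hw : w ≠ 0 := by
        intro h; exact hli.ne_zero 0 (by simp [h])
      have hlt : Submodule.span E {w} ≠ ⊤ := by
        intro h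
        have := finrank_span_singleton (K := E) hw
        rw [h, finrank_top] at this
        omega
      obtain ⟨f, hf0, hf⟩ := Submodule.exists_le_ker_of_lt_top _ (lt_top_iff_ne_top.mpr hlt)
      have hfw : f w = 0 := hf (Submodule.mem_span_singleton_self w)
      obtain ⟨v, hv⟩ : ∃ v, f v ≠ 0 := by
        by_contra hall
        push Not at hall
        exact hf0 (LinearMap.ext hall)
      have := key x hx f w hfw v
      have h' : xl (f v • w) = f (x *ᵥ v) • w := this
      rw [map_smul] at h'
      rw [LinearIndependent.pair_iff] at hli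
      exact hv (neg_eq_zero.mp (hli (f (x *ᵥ v)) (-(f v)) (by rw [neg_smul, h', add_neg_cancel])).2))
    have : x = ψ c := by
      apply Matrix.toLin'.injective
      refine LinearMap.ext fun v => ?_
      exact LinearMap.congr_fun hc v
    exact this ▸ ⟨c, rfl⟩
  have := Submodule.finrank_mono (show Subalgebra.toSubmodule K ≤ Subalgebra.toSubmodule ψ.range from hsub)
  rw [Subalgebra.finrank_toSubmodule, Subalgebra.finrank_toSubmodule, hK.finrank_eq] at this
  have hle := LinearMap.finrank_range_le ψ.toLinearMap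
  have he : Subalgebra.toSubmodule ψ.range = LinearMap.range ψ.toLinearMap := by ext; simp
  rw [← he, Subalgebra.finrank_toSubmodule] at hle
  omega

/-- Some element of `SL` centralising `L` does not normalise a strictly larger field `K`. -/
theorem exists_centralizer_not_normalizer [Finite F] [Nonempty ι] {r s : ℕ}
    {L K : Subalgebra F (Matrix ι ι F)} (hL : IsFieldSubalgebra s L) (hK : IsFieldSubalgebra r K)
    (hLK : L ≤ K) (hsr : s < r) (hn : 2 * s < Fintype.card ι) :
    ∃ g ∈ specialLinear ι F, (∀ l ∈ L, (g : Matrix ι ι F) * l = l * (g : Matrix ι ι F)) ∧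
      g ∉ subalgebraNormalizer K := by
  letI : Field L := (isField_of_isFieldSubalgebra hL).toField
  haveI : Finite L := Finite.of_injective (fun x : L => (x : Matrix ι ι F)) Subtype.val_injective
  obtain ⟨g, h1, h2, h3⟩ := exists_centralizer_not_normalizer_aux (E := L) L.val hK
    (fun e => hLK e.2) (hL.finrank_eq.symm ▸ hsr) (hL.finrank_eq.symm ▸ hn)
  exact ⟨g, h1, fun l hl => h2 ⟨l, hl⟩, h3⟩

theorem isFieldSubalgebra_bot [Nonempty ι] :
    IsFieldSubalgebra 1 (⊥ : Subalgebra F (Matrix ι ι F)) := by
  refine ⟨fun x hx y hy => ?_, fun x hx hne => ?_, Subalgebra.finrank_bot⟩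
  · obtain ⟨a, rfl⟩ := Algebra.mem_bot.mp hx
    exact Algebra.commutes a y
  · obtain ⟨a, rfl⟩ := Algebra.mem_bot.mp hx
    refine ⟨algebraMap F _ a⁻¹, Algebra.mem_bot.mpr ⟨_, rfl⟩, ?_⟩
    rw [← map_mul, mul_inv_cancel₀ (fun h => hne (by rw [h, map_zero])), map_one]

/-- The normaliser of a non-scalar field subalgebra does not contain `SL`, in dimension at least three. -/
theorem not_specialLinear_le_normalizer [Finite F] [Nonempty ι] {r : ℕ} (hr : 1 < r)
    (hn : 3 ≤ Fintype.card ι) {K : Subalgebra F (Matrix ι ι F)} (hK : IsFieldSubalgebra r K) :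
    ¬ specialLinear ι F ≤ subalgebraNormalizer K := by
  intro h
  obtain ⟨g, hg, -, hg'⟩ :=
    exists_centralizer_not_normalizer isFieldSubalgebra_bot hK bot_le hr (by omega)
  exact hg' (h hg)

end Cfsg.Agent.MaxSub
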