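import Mathlib

/-!
Stabilisers of partitions into blocks of equal size: criteria for maximality in Sym and Alt.
-/

set_option autoImplicit false

namespace Cfsg.Agent.MaxSub

open Equiv Equiv.Perm MulAction
open scoped Pointwise

variable {Ω β : Type*}

/-- The permutations preserving the partition of `Ω` into the fibres of `f`. -/
def partGroup (f : Ω → β) : Subgroup (Perm Ω) where
  carrier := {g | ∀ x y : Ω, f x = f y ↔ f (g x) = f (g y)}
  one_mem' := fun x y => Iff.rfl
  mul_mem' := fun {g h} hg hh x y => (hh x y).trans (hg (h x) (h y))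
  inv_mem' := fun {g} hg x y => by
    have := hg (g⁻¹ x) (g⁻¹ y)
    simp only [← Perm.mul_apply, mul_inv_cancel, Perm.one_apply] at this
    exact this.symm

theorem mem_partGroup {f : Ω → β} {g : Perm Ω} :
    g ∈ partGroup f ↔ ∀ x y : Ω, f x = f y ↔ f (g x) = f (g y) := Iff.rfl

theorem closure_eq_partGroup (f : Ω → β) :
    Subgroup.closure {g : Perm Ω | ∀ x y : Ω, f x = f y ↔ f (g x) = f (g y)} = partGroup f :=
  le_antisymm ((Subgroup.closure_le _).mpr fun _ hg => hg) fun _ hg => Subgroup.subset_closure hg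

variable [Fintype Ω] [DecidableEq Ω]

theorem exists_ne_ne_same {f : Ω → β} (h3 : ∀ x, 3 ≤ {y | f y = f x}.ncard) (x : Ω) :
    ∃ u v, u ≠ x ∧ v ≠ x ∧ u ≠ v ∧ f u = f x ∧ f v = f x := by
  have : 1 < ({y | f y = f x} \ {x}).ncard := by
    rw [Set.ncard_sdiff_singleton_of_mem (show x ∈ {y | f y = f x} from rfl)]
    have := h3 x; omega
  obtain ⟨u, hu, v, hv, huv⟩ := (Set.one_lt_ncard (Set.toFinite _)).mp this
  exact ⟨u, v, hu.2, hv.2, huv, hu.1, hv.1⟩

theorem swap_mem_partGroup {f : Ω → β} {u v : Ω} (h : f u = f v) : swap u v ∈ partGroup f := by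
  intro x y
  have e : ∀ z, f (swap u v z) = f z := by
    intro z
    rcases eq_or_ne z u with rfl | hu
    · rw [swap_apply_left, h]
    rcases eq_or_ne z v with rfl | hv
    · rw [swap_apply_right, h]
    · rw [swap_apply_of_ne_of_ne hu hv]
  rw [e, e]

/-- Some element preserving the partition maps the fibre of `y` to that of `z`, `y` to `z`,
and fixes every point outside the two fibres. -/
theorem exists_partGroup_map {f : Ω → β} {a : ℕ} (ha : ∀ x, {y | f y = f x}.ncard = a) (y z : Ω) :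
    ∃ g ∈ partGroup f, g y = z ∧ ∀ x, f x ≠ f y → f x ≠ f z → g x = x := by
  classical
  by_cases hyz : f y = f z
  · refine ⟨swap y z, swap_mem_partGroup hyz, swap_apply_left y z, fun x h1 h2 => ?_⟩
    exact swap_apply_of_ne_of_ne (fun h => h1 (h ▸ rfl)) (fun h => h2 (h ▸ rfl))
  · obtain ⟨e⟩ : Nonempty ({x : Ω // f x = f y} ≃ {x : Ω // f x = f z}) := by
      refine ⟨(Finite.card_eq.mp ?_).some⟩
      have h1 := ha y
      have h2 := ha z
      rw [← Nat.card_coe_set_eq] at h1 h2
      exact h1.trans h2.symm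
    let g₀ : Ω → Ω := fun x =>
      if h : f x = f y then (e ⟨x, h⟩).1 else if h' : f x = f z then (e.symm ⟨x, h'⟩).1 else x
    have hinv : Function.Involutive g₀ := by
      intro x
      by_cases h : f x = f y
      · have h1 : g₀ x = (e ⟨x, h⟩).1 := by simp [g₀, h]
        have h2 : f (g₀ x) = f z := by rw [h1]; exact (e ⟨x, h⟩).2
        have h3 : f (g₀ x) ≠ f y := fun h' => hyz (h'.symm.trans h2)
        conv_lhs => unfold g₀
        rw [dif_neg (by exact h3), dif_pos (by exact h2)]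
        have : (⟨g₀ x, h2⟩ : {x : Ω // f x = f z}) = e ⟨x, h⟩ := Subtype.ext h1
        simp only [g₀] at this
        simp [this]
      · by_cases h' : f x = f z
        · have h1 : g₀ x = (e.symm ⟨x, h'⟩).1 := by simp only [g₀, dif_neg h, dif_pos h']
          have h2 : f (g₀ x) = f y := by rw [h1]; exact (e.symm ⟨x, h'⟩).2
          conv_lhs => unfold g₀
          rw [dif_pos (by exact h2)]
          have : (⟨g₀ x, h2⟩ : {x : Ω // f x = f y}) = e.symm ⟨x, h'⟩ := Subtype.ext h1
          simp only [g₀] at this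
          simp [this]
        · simp [g₀, h, h']
    let g : Perm Ω := hinv.toPerm _
    have key : ∀ x, f (g x) = if f x = f y then f z else if f x = f z then f y else f x := by
      intro x
      show f (g₀ x) = _
      by_cases h : f x = f y
      · simp only [g₀, dif_pos h, if_pos h]; exact (e ⟨x, h⟩).2
      · by_cases h' : f x = f z
        · simp only [g₀, dif_neg h, dif_pos h', if_neg h, if_pos h']; exact (e.symm ⟨x, h'⟩).2
        · simp [g₀, h, h']
    have hg : g ∈ partGroup f := by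
      intro u v
      rw [key, key]
      grind
    refine ⟨swap (g y) z * g, mul_mem (swap_mem_partGroup ?_) hg, ?_, fun x h1 h2 => ?_⟩
    · rw [key, if_pos rfl]
    · rw [Perm.mul_apply, swap_apply_left]
    · have hx : g x = x := by show g₀ x = x; simp [g₀, h1, h2]
      rw [Perm.mul_apply, hx]
      refine swap_apply_of_ne_of_ne (fun h => h2 ?_) (fun h => h2 (h ▸ rfl))
      rw [h, key, if_pos rfl]

variable (f : Ω → β)

/-- Equal fibres of size at least two and at least two fibres. -/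
structure IsEquiPartition (a : ℕ) : Prop where
  card_eq : ∀ x, {y | f y = f x}.ncard = a
  two_le : 2 ≤ a
  exists_ne : ∀ x, ∃ y, f y ≠ f x

variable {f}

theorem IsEquiPartition.exists_same {a : ℕ} (hf : IsEquiPartition f a) (x : Ω) :
    ∃ u, u ≠ x ∧ f u = f x := by
  obtain ⟨u, hu, hne⟩ := Set.exists_ne_of_one_lt_ncard
    (show 1 < {y | f y = f x}.ncard by rw [hf.card_eq]; exact hf.two_le) x
  exact ⟨u, hne, hu⟩

/-- `W` is large inside the partition group: point stabilisers are transitive on the rest of the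
fibre and on the points outside it. -/
structure IsBigIn (f : Ω → β) (W : Subgroup (Perm Ω)) : Prop where
  le : W ≤ partGroup f
  trans : ∀ x y : Ω, ∃ w ∈ W, w x = y
  move : ∀ x y z : Ω, y ≠ x → z ≠ x → (f y = f x ↔ f z = f x) → ∃ w ∈ W, w x = x ∧ w y = z

theorem isBigIn_partGroup {a : ℕ} (hf : IsEquiPartition f a) : IsBigIn f (partGroup f) := by
  refine ⟨le_rfl, fun x y => (exists_partGroup_map hf.card_eq x y).imp fun g h => ⟨h.1, h.2.1⟩,
    fun x y z hy hz hiff => ?_⟩
  by_cases hyx : f y = f x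
  · refine ⟨swap y z, swap_mem_partGroup (hyx.trans (hiff.mp hyx).symm), ?_, swap_apply_left y z⟩
    exact swap_apply_of_ne_of_ne hy.symm hz.symm
  · obtain ⟨g, hg, h1, h2⟩ := exists_partGroup_map hf.card_eq y z
    exact ⟨g, hg, h2 x (Ne.symm hyx) (Ne.symm fun h => hyx (hiff.mpr h)), h1⟩

theorem sign_swap_mul_of_ne_one {g : Perm Ω} {u v : Ω} (h : u ≠ v) (hs : Perm.sign g ≠ 1) :
    swap u v * g ∈ alternatingGroup Ω := by
  rw [mem_alternatingGroup, map_mul, sign_swap h]
  rcases Int.units_eq_one_or (Perm.sign g) with h1 | h1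
  · exact absurd h1 hs
  · rw [h1]; rfl

theorem isBigIn_alternating {a : ℕ} (hf : IsEquiPartition f a)
    (h : 3 ≤ a ∨ ∀ x y, ∃ t, f t ≠ f x ∧ f t ≠ f y) :
    IsBigIn f (partGroup f ⊓ alternatingGroup Ω) := by
  refine ⟨inf_le_left, fun x y => ?_, fun x y z hy hz hiff => ?_⟩
  · obtain ⟨g, hg, hgy, -⟩ := exists_partGroup_map hf.card_eq x y
    by_cases hs : Perm.sign g = 1
    · exact ⟨g, ⟨hg, hs⟩, hgy⟩
    obtain ⟨t, ht⟩ := hf.exists_ne y
    obtain ⟨u, hu, hfu⟩ := hf.exists_same t
    refine ⟨swap u t * g, ⟨mul_mem (swap_mem_partGroup hfu) hg, sign_swap_mul_of_ne_one hu hs⟩, ?_⟩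
    rw [Perm.mul_apply, hgy]
    exact swap_apply_of_ne_of_ne (fun e => ht (by rw [← hfu, ← e])) (fun e => ht (by rw [e]))
  obtain ⟨g, hg, hgx, hgy⟩ := (isBigIn_partGroup hf).move x y z hy hz hiff
  by_cases hs : Perm.sign g = 1
  · exact ⟨g, ⟨hg, hs⟩, hgx, hgy⟩
  obtain ⟨u, v, huv, hfuv, hu1, hu2, hv1, hv2⟩ :
      ∃ u v, u ≠ v ∧ f u = f v ∧ u ≠ x ∧ u ≠ z ∧ v ≠ x ∧ v ≠ z := by
    by_cases hzx : f z = f x
    · obtain ⟨t, ht⟩ := hf.exists_ne x
      obtain ⟨u, hu, hfu⟩ := hf.exists_same t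
      exact ⟨u, t, hu, hfu, fun e => ht (by rw [← hfu, e]), fun e => ht (by rw [← hfu, e, hzx]),
        fun e => ht (by rw [e]), fun e => ht (by rw [e, hzx])⟩
    · rcases h with h3 | h3
      · obtain ⟨u, v, h1, h2, h12, hfu, hfv⟩ := exists_ne_ne_same
          (f := f) (fun w => by rw [hf.card_eq]; exact h3) x
        exact ⟨u, v, h12, hfu.trans hfv.symm, h1, fun e => hzx (e ▸ hfu), h2, fun e => hzx (e ▸ hfv)⟩
      · obtain ⟨t, ht1, ht2⟩ := h3 x z
        obtain ⟨u, hu, hfu⟩ := hf.exists_same t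
        exact ⟨u, t, hu, hfu, fun e => ht1 (by rw [← hfu, e]), fun e => ht2 (by rw [← hfu, e]),
          fun e => ht1 (by rw [e]), fun e => ht2 (by rw [e])⟩
  refine ⟨swap u v * g, ⟨mul_mem (swap_mem_partGroup hfuv) hg, sign_swap_mul_of_ne_one huv hs⟩, ?_, ?_⟩
  · rw [Perm.mul_apply, hgx, swap_apply_of_ne_of_ne hu1.symm hv1.symm]
  · rw [Perm.mul_apply, hgy, swap_apply_of_ne_of_ne hu2.symm hv2.symm]

/-- A group properly above a big subgroup of the partition group is primitive. -/
theorem isPreprimitive_of_isBigIn {a : ℕ} (hf : IsEquiPartition f a) {W G : Subgroup (Perm Ω)}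
    (hW : IsBigIn f W) (hWG : W ≤ G) (hG : ¬ G ≤ partGroup f) (x₀ : Ω) :
    IsPreprimitive G Ω := by
  classical
  have : IsPretransitive G Ω := ⟨fun x y => by
    obtain ⟨w, hw, h⟩ := hW.trans x y
    exact ⟨⟨w, hWG hw⟩, h⟩⟩
  -- a block through x
  have hblock : ∀ x, ∀ B : Set Ω, x ∈ B → IsBlock G B →
      B.Subsingleton ∨ B = Set.univ ∨ B = {y | f y = f x} := by
    intro x B hxB hB
    rcases B.subsingleton_or_nontrivial with h | h
    · exact Or.inl h
    refine Or.inr ?_
    have orb : ∀ y ∈ B, y ≠ x → ∀ z, z ≠ x → (f y = f x ↔ f z = f x) → z ∈ B := by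
      intro y hy hyx z hz hiff
      obtain ⟨w, hw, hwx, hwy⟩ := hW.move x y z hyx hz hiff
      have : (⟨w, hWG hw⟩ : G) • B = B :=
        isBlock_iff_smul_eq_of_nonempty.mp hB ⟨x, ⟨x, hxB, hwx⟩, hxB⟩
      rw [← this]
      exact ⟨y, hy, hwy⟩
    by_cases hout : ∃ y ∈ B, f y ≠ f x
    · obtain ⟨y, hy, hfy⟩ := hout
      left
      have hyx : y ≠ x := fun e => hfy (e ▸ rfl)
      have hsub : {z | f z ≠ f x} ∪ {x} ⊆ B := by
        rintro z (hz | hz)
        · exact orb y hy hyx z (fun e => hz (e ▸ rfl)) (iff_of_false hfy hz)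
        · rw [Set.mem_singleton_iff] at hz; exact hz ▸ hxB
      apply hB.eq_univ_of_card_lt
      have hle := Set.ncard_le_ncard hsub
      have hcomp := Set.ncard_add_ncard_compl {z | f z = f x}
      have hcomp' : {z | f z = f x}ᶜ = {z | f z ≠ f x} := rfl
      rw [hcomp'] at hcomp
      have hu : ({z | f z ≠ f x} ∪ {x}).ncard = {z | f z ≠ f x}.ncard + 1 := by
        rw [Set.union_singleton, Set.ncard_insert_of_notMem (by simp)]
      have hge : {z | f z = f x}.ncard ≤ {z | f z ≠ f x}.ncard := by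
        obtain ⟨t, ht⟩ := hf.exists_ne x
        rw [hf.card_eq, ← hf.card_eq t]
        exact Set.ncard_le_ncard (fun z (hz : f z = f t) => show f z ≠ f x from hz ▸ ht)
      omega
    · push Not at hout
      right
      obtain ⟨y, hy, hyx⟩ := h.exists_ne x
      refine Set.Subset.antisymm hout fun z hz => ?_
      rcases eq_or_ne z x with rfl | hzx
      · exact hxB
      · exact orb y hy hyx z hzx (iff_of_true (hout y hy) hz)
  apply IsPreprimitive.of_isTrivialBlock_base x₀
  intro B hxB hB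
  rcases hblock x₀ B hxB hB with h | h | h
  · exact Or.inl h
  · exact Or.inr h
  exfalso
  apply hG
  intro g hg
  -- all fibres are blocks, and their images are fibres
  have tr : ∀ u, IsBlock G {y | f y = f u} := by
    intro u
    obtain ⟨w, hw, hwu⟩ := hW.trans x₀ u
    have := hB.translate (⟨w, hWG hw⟩ : G)
    convert this using 1
    ext v
    rw [h]
    have hw' := hW.le hw
    constructor
    · intro hv
      refine ⟨w⁻¹ v, ?_, by show w (w⁻¹ v) = v; simp⟩
      have := hw' (w⁻¹ v) x₀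
      simp only [← Perm.mul_apply, mul_inv_cancel, Perm.one_apply, hwu] at this
      exact this.mpr hv
    · rintro ⟨s, hs, rfl⟩
      show f (w s) = f u
      rw [← hwu]
      exact (hw' s x₀).mp hs
  have himg : ∀ p q, f p = f q → f (g p) = f (g q) := by
    intro p q hpq
    have hb := (tr p).translate (⟨g, hg⟩ : G)
    rcases hblock (g p) _ (show g p ∈ (⟨g, hg⟩ : G) • {y | f y = f p} from ⟨p, rfl, rfl⟩) hb with h' | h' | h'
    · exfalso
      obtain ⟨r, hr, hfr⟩ := hf.exists_same p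
      exact hr (g.injective (h' (show g r ∈ (⟨g, hg⟩ : G) • {y | f y = f p} from ⟨r, hfr, rfl⟩) (show g p ∈ (⟨g, hg⟩ : G) • {y | f y = f p} from ⟨p, rfl, rfl⟩)))
    · exfalso
      obtain ⟨t, ht⟩ := hf.exists_ne p
      obtain ⟨r, hr, hr'⟩ : g t ∈ (⟨g, hg⟩ : G) • {y | f y = f p} := by rw [h']; trivial
      exact ht (g.injective hr' ▸ hr)
    · have : g q ∈ (⟨g, hg⟩ : G) • {y | f y = f p} := ⟨q, hpq.symm, rfl⟩
      rw [h'] at this
      exact this.symm
  intro p q
  refine ⟨himg p q, fun hpq => ?_⟩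
  -- fibres map onto fibres
  have hsub : g '' {y | f y = f q} ⊆ {y | f y = f (g q)} := by
    rintro _ ⟨r, hr, rfl⟩; exact himg r q hr
  have heq := Set.eq_of_subset_of_ncard_le hsub (by
    rw [Set.ncard_image_of_injective _ g.injective, hf.card_eq, hf.card_eq])
  have : g p ∈ g '' {y | f y = f q} := heq ▸ hpq
  exact (g.injective.mem_set_image).mp this

theorem partGroup_ne_top {a : ℕ} (hf : IsEquiPartition f a) (x : Ω) :
    ¬ alternatingGroup Ω ≤ partGroup f := by
  intro h
  obtain ⟨y, hy, hfy⟩ := hf.exists_same x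
  obtain ⟨z, hz⟩ := hf.exists_ne x
  have hxz : x ≠ z := fun e => hz (e ▸ rfl)
  have hyz : y ≠ z := fun e => hz (e ▸ hfy)
  have hmem : swap x z * swap x y ∈ alternatingGroup Ω := by
    rw [mem_alternatingGroup, map_mul, sign_swap hxz, sign_swap hy.symm]; rfl
  -- y ↦ z, x ↦ y
  have := (h hmem y x).mp hfy
  simp [swap_apply_of_ne_of_ne hy hyz] at this
  exact hz (this.trans hfy)

/-- The stabiliser of a partition is maximal in the symmetric group. -/
theorem isCoatom_partGroup {a : ℕ} (hf : IsEquiPartition f a) (x : Ω) :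
    IsCoatom (partGroup f) := by
  refine ⟨fun h => partGroup_ne_top hf x (h ▸ le_top), fun G hG => ?_⟩
  have hp := isPreprimitive_of_isBigIn hf (isBigIn_partGroup hf) hG.le hG.not_ge x
  obtain ⟨y, hy, hfy⟩ := hf.exists_same x
  exact subgroup_eq_top_of_isPreprimitive_of_isSwap_mem hp _ (swap_isSwap_iff.mpr hy)
    (hG.le (swap_mem_partGroup hfy))

/-- A three-cycle inside the even partition group when the fibres have at least three points. -/
theorem exists_threeCycle_of_three_le {a : ℕ} (hf : IsEquiPartition f a) (h3 : 3 ≤ a) (x : Ω) :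
    ∃ g ∈ partGroup f ⊓ alternatingGroup Ω, IsThreeCycle g := by
  obtain ⟨u, v, h1, h2, h12, hfu, hfv⟩ := exists_ne_ne_same
    (f := f) (fun w => by rw [hf.card_eq]; exact h3) x
  have hc : IsThreeCycle (swap x u * swap x v) := isThreeCycle_swap_mul_swap_same h1.symm h2.symm h12
  exact ⟨_, ⟨mul_mem (swap_mem_partGroup hfu.symm) (swap_mem_partGroup hfv.symm),
    hc.mem_alternatingGroup⟩, hc⟩

theorem eq_pair_of_ncard_two {a : ℕ} (hf : IsEquiPartition f a) (h2 : a = 2) {x y z : Ω}
    (hy : y ≠ x) (hfy : f y = f x) (hz : f z = f x) : z = x ∨ z = y := by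
  have h := Set.eq_of_subset_of_ncard_le (s := {x, y}) (t := {w | f w = f x})
    (by rintro w (rfl | rfl); exacts [rfl, hfy])
    (by rw [hf.card_eq, h2, Set.ncard_pair hy.symm])
  have : z ∈ ({x, y} : Set Ω) := h.symm ▸ hz
  simpa using this

/-- Two double transpositions give a three-cycle. -/
theorem threeCycle_of_inter_one {p q r s t u v : Ω}
    (h : List.Nodup [p, q, r, s, t, u, v]) :
    IsThreeCycle (((swap p q * swap r s) * (swap p t * swap u v)) ^ 2) := by
  simp only [List.nodup_cons, List.mem_cons, List.not_mem_nil, or_false, List.nodup_nil, and_true,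
    not_or] at h
  obtain ⟨⟨hpq, hpr, hps, hpt, hpu, hpv⟩, ⟨hqr, hqs, hqt, hqu, hqv⟩, ⟨hrs, hrt, hru, hrv⟩,
    ⟨hst, hsu, hsv⟩, ⟨htu, htv⟩, huv, -⟩ := h
  have e : ((swap p q * swap r s) * (swap p t * swap u v)) ^ 2 = swap p t * swap p q := by
    ext x
    simp only [pow_two, Perm.mul_apply]
    by_cases x1 : x = p
    · subst x1; simp [swap_apply_def]; grind
    by_cases x2 : x = q
    · subst x2; simp [swap_apply_def]; grind
    by_cases x3 : x = t
    · subst x3; simp [swap_apply_def]; grind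
    simp [swap_apply_def]
    grind
  rw [e]
  exact isThreeCycle_swap_mul_swap_same hpt hpq (Ne.symm hqt)

theorem threeCycle_of_inter_three {p q r s : Ω} (hpq : p ≠ q) (hpr : p ≠ r) (hqr : q ≠ r)
    (hs : s ≠ p ∧ s ≠ q ∧ s ≠ r) {t : Ω} (hst : t ≠ p ∧ t ≠ q ∧ t ≠ r) (hne : s ≠ t) :
    IsThreeCycle ((swap p q * swap r s) * (swap p q * swap r t)) := by
  have e : (swap p q * swap r s) * (swap p q * swap r t) = swap r s * swap r t := by
    ext x
    simp only [Perm.mul_apply]
    simp [swap_apply_def]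
    grind
  rw [e]
  exact isThreeCycle_swap_mul_swap_same hs.2.2.symm hst.2.2.symm hne

omit [Fintype Ω] in
theorem conj_doubleSwap (g : Perm Ω) (a b c d : Ω) :
    g * (swap a b * swap c d) * g⁻¹ = swap (g a) (g b) * swap (g c) (g d) := by
  rw [show g * (swap a b * swap c d) * g⁻¹ = (g * swap a b * g⁻¹) * (g * swap c d * g⁻¹) by group,
    ← swap_apply_apply, ← swap_apply_apply]

/-- For fibres of size two, three or at least five of them, a group above the even partition
group and not preserving the partition contains a three-cycle. -/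
theorem exists_threeCycle_of_two {a : ℕ} (hf : IsEquiPartition f a) (h2 : a = 2)
    (h3 : ∀ x y, ∃ t, f t ≠ f x ∧ f t ≠ f y) (h8 : Fintype.card Ω ≠ 8) {G : Subgroup (Perm Ω)}
    (hle : partGroup f ⊓ alternatingGroup Ω ≤ G) (hG : ¬ G ≤ partGroup f) :
    ∃ g ∈ G, IsThreeCycle g := by
  classical
  -- the three double transpositions on the union of two fibres
  have dbl : ∀ {p q r s : Ω}, p ≠ q → r ≠ s → f p = f q → f r = f s → f p ≠ f r →
      (swap p q * swap r s ∈ G) ∧ (swap p r * swap q s ∈ G) ∧ (swap p s * swap q r ∈ G) := by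
    intro p q r s hpq hrs hfpq hfrs hne
    have ev : ∀ {a b c d : Ω}, a ≠ b → c ≠ d → swap a b * swap c d ∈ alternatingGroup Ω := by
      intro a b c d hab hcd
      rw [mem_alternatingGroup, map_mul, sign_swap hab, sign_swap hcd]; rfl
    have hpr : p ≠ r := fun e => hne (e ▸ rfl)
    have hps : p ≠ s := fun e => hne (by rw [e, hfrs])
    have hqr : q ≠ r := fun e => hne (by rw [hfpq, e])
    have hqs : q ≠ s := fun e => hne (by rw [hfpq, e, hfrs])
    have two : ∀ {w}, f w = f p → w = p ∨ w = q := fun hw => eq_pair_of_ncard_two hf h2 hpq.symm hfpq.symm hw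
    have two' : ∀ {w}, f w = f r → w = r ∨ w = s := fun hw => eq_pair_of_ncard_two hf h2 hrs.symm hfrs.symm hw
    have mem : ∀ {g : Perm Ω}, (∀ w, f (g w) = if f w = f p then f r else if f w = f r then f p else f w) →
        g ∈ partGroup f := by
      intro g hg x y
      rw [hg, hg]; grind
    refine ⟨hle ⟨mul_mem (swap_mem_partGroup hfpq) (swap_mem_partGroup hfrs), ev hpq hrs⟩,
      hle ⟨mem fun w => ?_, ev hpr hqs⟩, hle ⟨mem fun w => ?_, ev hps hqr⟩⟩
    all_goals
      by_cases w1 : f w = f p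
      · rcases two w1 with rfl | rfl <;> simp [swap_apply_def, w1] <;> grind
      · by_cases w2 : f w = f r
        · rcases two' w2 with rfl | rfl <;> simp [swap_apply_def, w1, w2] <;> grind
        · simp [swap_apply_def, w1, w2]
          grind
  obtain ⟨g, hgG, hg⟩ := SetLike.not_le_iff_exists.mp hG
  -- a fibre split by g
  obtain ⟨p, q, hpq, hfpq, hsplit⟩ : ∃ p q, p ≠ q ∧ f p = f q ∧ f (g p) ≠ f (g q) := by
    by_contra hc
    push Not at hc
    apply hg
    intro x y
    have key : ∀ x y, f x = f y → f (g x) = f (g y) := fun x y e => by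
      rcases eq_or_ne x y with rfl | ne
      · rfl
      · exact hc x y ne e
    refine ⟨key x y, fun e => ?_⟩
    have hsub : g '' {w | f w = f y} ⊆ {w | f w = f (g y)} := by
      rintro _ ⟨r, hr, rfl⟩; exact key r y hr
    have heq := Set.eq_of_subset_of_ncard_le hsub (by
      rw [Set.ncard_image_of_injective _ g.injective, hf.card_eq, hf.card_eq])
    exact (g.injective.mem_set_image).mp (heq ▸ e : g x ∈ g '' {w | f w = f y})
  obtain ⟨p', hp', hfp'⟩ := hf.exists_same (g p)
  obtain ⟨q', hq', hfq'⟩ := hf.exists_same (g q)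
  -- a second fibre avoiding the preimage of p'
  obtain ⟨r, hr1, hr2⟩ := h3 p (g⁻¹ p')
  obtain ⟨s, hrs, hfsr⟩ := hf.exists_same r
  have hne1 : p' ≠ g q := fun e => hsplit (by rw [← hfp', e])
  have hp'r : p' ≠ g r := fun e => hr2 (by rw [e]; simp)
  have hp's : p' ≠ g s := fun e => hr2 (by rw [← hfsr, e]; simp)
  have hpr : p ≠ r := fun e => hr1 (e ▸ rfl)
  have hps : p ≠ s := fun e => hr1 (by rw [← hfsr, e])
  have hqr : q ≠ r := fun e => hr1 (by rw [hfpq, e])
  have hqs : q ≠ s := fun e => hr1 (by rw [← hfsr, hfpq, e])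
  -- all three double transpositions on S = g {p, q, r, s}
  obtain ⟨d1, d2, d3⟩ := dbl hpq hrs.symm hfpq hfsr.symm (Ne.symm hr1)
  set A := g p with hA
  set B := g q with hB
  set C := g r with hC
  set D := g s with hD
  have c1 : swap A B * swap C D ∈ G := conj_doubleSwap g p q r s ▸ G.mul_mem (G.mul_mem hgG d1) (G.inv_mem hgG)
  have c2 : swap A C * swap B D ∈ G := conj_doubleSwap g p r q s ▸ G.mul_mem (G.mul_mem hgG d2) (G.inv_mem hgG)
  have c3 : swap A D * swap B C ∈ G := conj_doubleSwap g p s q r ▸ G.mul_mem (G.mul_mem hgG d3) (G.inv_mem hgG)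
  have hAB : A ≠ B := fun e => hpq (g.injective e)
  have hAC : A ≠ C := fun e => hpr (g.injective e)
  have hAD : A ≠ D := fun e => hps (g.injective e)
  have hBC : B ≠ C := fun e => hqr (g.injective e)
  have hBD : B ≠ D := fun e => hqs (g.injective e)
  have hCD : C ≠ D := fun e => hrs.symm (g.injective e)
  by_cases hfull : ∃ t t', t ≠ t' ∧ f t = f t' ∧ f t ≠ f A ∧ ((t = B ∨ t = C ∨ t = D) ∧ (t' = B ∨ t' = C ∨ t' = D))
  · -- supports share three points
    obtain ⟨t, t', htt', hftt', htA, ht, ht'⟩ := hfull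
    obtain ⟨e1, e2, e3⟩ := dbl hp'.symm htt' hfp'.symm hftt' (Ne.symm htA)
    -- e2 = (A t)(p' t'), e3 = (A t')(p' t)
    rcases ht with rfl | rfl | rfl <;> rcases ht' with rfl | rfl | rfl
    · exact absurd rfl htt'
    · refine ⟨_, G.mul_mem c1 e2, ?_⟩
      rw [swap_comm p' C]
      exact threeCycle_of_inter_three hAB hAC hBC ⟨hAD.symm, hBD.symm, hCD.symm⟩
        ⟨hp', hne1, hp'r⟩ hp's.symm
    · refine ⟨_, G.mul_mem c1 e2, ?_⟩
      rw [swap_comm p' D, swap_comm C D]
      exact threeCycle_of_inter_three hAB hAD hBD ⟨hAC.symm, hBC.symm, hCD⟩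
        ⟨hp', hne1, hp's⟩ hp'r.symm
    · refine ⟨_, G.mul_mem c2 e2, ?_⟩
      rw [swap_comm p' B]
      exact threeCycle_of_inter_three hAC hAB hBC.symm ⟨hAD.symm, hCD.symm, hBD.symm⟩
        ⟨hp', hp'r, hne1⟩ hp's.symm
    · exact absurd rfl htt'
    · refine ⟨_, G.mul_mem c2 e2, ?_⟩
      rw [swap_comm p' D, swap_comm B D]
      exact threeCycle_of_inter_three hAC hAD hCD ⟨hAB.symm, hBC, hBD⟩
        ⟨hp', hp'r, hp's⟩ hne1.symm
    · refine ⟨_, G.mul_mem c3 e2, ?_⟩
      rw [swap_comm p' B]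
      exact threeCycle_of_inter_three hAD hAB hBD.symm ⟨hAC.symm, hCD, hBC.symm⟩
        ⟨hp', hp's, hne1⟩ hp'r.symm
    · refine ⟨_, G.mul_mem c3 e2, ?_⟩
      rw [swap_comm p' C, swap_comm B C]
      exact threeCycle_of_inter_three hAD hAC hCD.symm ⟨hAB.symm, hBD, hBC⟩
        ⟨hp', hp's, hp'r⟩ hne1.symm
    · exact absurd rfl htt'
  · -- a fibre disjoint from S
    push Not at hfull
    obtain ⟨w, hwA, hwB, hwC, hwD⟩ : ∃ w, f w ≠ f A ∧ f w ≠ f B ∧ f w ≠ f C ∧ f w ≠ f D := by
      by_contra hc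
      push Not at hc
      apply h8
      have hcov : (Set.univ : Set Ω) =
          ({w | f w = f A} ∪ {w | f w = f B}) ∪ ({w | f w = f C} ∪ {w | f w = f D}) := by
        ext w
        have := hc w
        simp only [Set.mem_univ, Set.mem_union, Set.mem_setOf_eq, true_iff]
        tauto
      have hfA : ∀ t, (t = B ∨ t = C ∨ t = D) → f t ≠ f A := by
        intro t ht e
        rcases eq_pair_of_ncard_two hf h2 hp' hfp' e with h | h
        · rcases ht with rfl | rfl | rfl
          exacts [hAB h.symm, hAC h.symm, hAD h.symm]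
        · rcases ht with rfl | rfl | rfl
          exacts [hne1 h.symm, hp'r h.symm, hp's h.symm]
      have fB := hfA B (Or.inl rfl)
      have fC := hfA C (Or.inr (Or.inl rfl))
      have fD := hfA D (Or.inr (Or.inr rfl))
      have nBC : f B ≠ f C := fun e => (hfull B C hBC e fB (Or.inl rfl)).2.1 rfl
      have nBD : f B ≠ f D := fun e => (hfull B D hBD e fB (Or.inl rfl)).2.2 rfl
      have nCD : f C ≠ f D := fun e => (hfull C D hCD e fC (Or.inr (Or.inl rfl))).2.2 rfl
      have dj : ∀ {u v : Ω}, f u ≠ f v → Disjoint {w | f w = f u} {w | f w = f v} :=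
        fun h => Set.disjoint_left.mpr fun w hw hw' => h (hw.symm.trans hw')
      have := congrArg Set.ncard hcov
      rw [Set.ncard_univ, Nat.card_eq_fintype_card,
        Set.ncard_union_eq (Set.disjoint_union_left.mpr
          ⟨Set.disjoint_union_right.mpr ⟨dj (Ne.symm fC), dj (Ne.symm fD)⟩,
           Set.disjoint_union_right.mpr ⟨dj nBC, dj nBD⟩⟩),
        Set.ncard_union_eq (dj (Ne.symm fB)), Set.ncard_union_eq (dj nCD),
        hf.card_eq, hf.card_eq, hf.card_eq, hf.card_eq, h2] at this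
      omega
    obtain ⟨w', hw', hfw'⟩ := hf.exists_same w
    obtain ⟨e1, -, -⟩ := dbl hp'.symm hw'.symm hfp'.symm hfw'.symm (Ne.symm hwA)
    refine ⟨_, G.pow_mem (G.mul_mem c1 e1) 2, threeCycle_of_inter_one ?_⟩
    have n1 : ∀ {u : Ω}, f w ≠ f u → u ≠ w ∧ u ≠ w' := fun h =>
      ⟨fun e => h (e ▸ rfl), fun e => h (by rw [e, hfw'])⟩
    have hpw : p' ≠ w ∧ p' ≠ w' := ⟨fun e => hwA (e ▸ hfp'), fun e => hwA (by rw [← hfw', ← e, hfp'])⟩
    simp only [List.nodup_cons, List.mem_cons, List.not_mem_nil, or_false, List.nodup_nil,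
      and_true, not_or, not_false_eq_true]
    exact ⟨⟨hAB, hAC, hAD, hp'.symm, (n1 hwA).1, (n1 hwA).2⟩,
      ⟨hBC, hBD, hne1.symm, (n1 hwB).1, (n1 hwB).2⟩, ⟨hCD, hp'r.symm, (n1 hwC).1, (n1 hwC).2⟩,
      ⟨hp's.symm, (n1 hwD).1, (n1 hwD).2⟩, hpw, hw'.symm⟩

end Cfsg.Agent.MaxSub
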